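import Groth.Agent.Lib.MeroLib.Integral
import Groth.Agent.Lib.MeroLib.ZeroScheme
import Groth.Agent.Lib.SecDiv18.Basic
import Groth.Agent.Lib.EffCartier.Mul
import Groth.Agent.Lib.CurveCoh17.IdealPow

/-!
# The zero scheme of a non-zero section on an integral scheme
-/

set_option autoImplicit false
set_option linter.style.haveILetI false
set_option backward.isDefEq.respectTransparency false

universe u

open CategoryTheory CategoryTheory.Limits AlgebraicGeometry TopologicalSpace Opposite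

namespace Groth.Agent.IrrDiv13

variable {X : Scheme.{u}} [IsIntegral X] {L D : X.Modules}

/-- A chart with generators of both modules, an equation of the section, and its ideal. -/
theorem exists_chart (hL : PicF.IsInvertible L) (hD : PicF.IsInvertible D) (s : Coh.structureModule X ⟶ L)
    (hs : s ≠ 0) (x : X) :
    ∃ (U : X.affineOpens) (e : Γ(L, U.1)) (e' : Γ(D, U.1)) (a : Γ(X, U.1)), x ∈ U.1 ∧ M2.IsGenerator e ∧
      M2.IsGenerator e' ∧ MeroLib.sval L s U.1 = a • e ∧ a ∈ nonZeroDivisors Γ(X, U.1) ∧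
      (PicF2.zeroScheme L s).ideal U = Ideal.span {a} := by
  obtain ⟨V, e₀, hxV, -, -, he₀⟩ := Amp.exists_isGenerator hD (V := ⊤) (x := x) trivial
  obtain ⟨U, e, a, hxU, hUV, hU, he, ha, -⟩ := Amp.exists_local hL s (V := V) hxV
  haveI : Nonempty ↥U := ⟨⟨x, hxU⟩⟩
  have hsv : MeroLib.sval L s U = a • e := (ha.trans (Amp.res_gval s U)).symm
  have hbij : Function.Bijective fun r : Γ(X, U) => r • e := by
    refine ⟨fun r r' h => (he U le_rfl).1 ?_, fun t => ?_⟩
    · show r • _ = r' • _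
      rw [Amp.res_self]
      exact h
    · exact Amp.exists_coeff he t
  have ha0 : a ≠ 0 := fun h => hs (MeroLib.eq_zero_of_coeff s hL hxU (by rw [hsv, h, zero_smul]))
  haveI : Nonempty ↥(⟨U, hU⟩ : X.affineOpens).1 := ⟨⟨x, hxU⟩⟩
  haveI : IsDomain Γ(X, U) := @IsIntegral.component_integral X _ U ⟨⟨x, hxU⟩⟩
  refine ⟨⟨U, hU⟩, e, M2.res D hUV e₀, a, hxU, he, Amp.isGenerator_res hUV he₀, hsv,
    mem_nonZeroDivisors_of_ne_zero (show (a : Γ(X, U)) ≠ 0 from ha0), ?_⟩
  rw [MeroLib.zeroScheme_ideal L s hL, MeroLib.zI_eq_span L s e hbij a hsv]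

theorem isEffCartier_zeroScheme (hL : PicF.IsInvertible L) (s : Coh.structureModule X ⟶ L) (hs : s ≠ 0) :
    BlowUp.IsEffCartierIdeal (PicF2.zeroScheme L s) := fun x => by
  obtain ⟨U, -, -, a, hx, -, -, -, ha, hI⟩ := exists_chart hL hL s hs x
  exact ⟨U, hx, a, ha, hI⟩

/-- The inverse of the module is the ideal module of the zero scheme. -/
theorem nonempty_inverse_iso_zeroScheme (hL : PicF.IsInvertible L) (hD : PicF.IsInvertible D)
    (ε : CohB1.tensorMod L D ≅ Coh.structureModule X) (s : Coh.structureModule X ⟶ L) (hs : s ≠ 0) :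
    Nonempty (D ≅ ClSub.idealMod (PicF2.zeroScheme L s)) := by
  let φ : D ⟶ Coh.structureModule X := (M2.tensorLUnit D).inv ≫ M2.tensorMap s (𝟙 D) ≫ ε.hom
  haveI : Coh.IsQCoh D := M2.isQCoh_of_isFinLocFree (M2.isFinLocFree_of_isInvertible hD)
  have hchart : ∀ x : X, ∃ (U : X.affineOpens) (e' : Γ(D, U.1)) (a : Γ(X, U.1)), x ∈ U.1 ∧ M2.IsGenerator e' ∧
      a ∈ nonZeroDivisors Γ(X, U.1) ∧ (PicF2.zeroScheme L s).ideal U = Ideal.span {a} ∧
      ∃ v : Γ(X, U.1), IsUnit v ∧ (show Γ(X, U.1) from φ.app U.1 e') = a * v := by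
    intro x
    obtain ⟨U, e, e', a, hx, he, he', hsv, ha, hI⟩ := exists_chart hL hD s hs x
    refine ⟨U, e', a, hx, he', ha, hI, (show Γ(X, U.1) from ε.hom.app U.1 (M2.tsec L D e e')), ?_, ?_⟩
    · have hgen := CurveOm17.isGen_tsec (A := L) (B := D) (U := U.1) he he'
      obtain ⟨z, hz⟩ := (ConcreteCategory.bijective_of_isIso (ε.hom.app U.1)).2 (M1.one U.1)
      obtain ⟨c, rfl⟩ := CurveOm17.exists_eq_smul_of_isGen hgen z
      exact IsUnit.of_mul_eq_one_right c ((Scheme.Modules.Hom.app_smul ε.hom c _).symm.trans hz)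
    · have hu : (M2.tensorLUnit D).inv.app U.1 e' = M2.tsec _ D (M1.one U.1) e' := by
        apply (ConcreteCategory.bijective_of_isIso ((M2.tensorLUnit D).hom.app U.1)).1
        refine Eq.trans ?_ (CurveCoh17.tensorLUnit_tsec (M := D) (1 : Γ(X, U.1)) e').symm
        rw [one_smul]
        exact congrArg (fun ψ => ψ.app U.1 e') (M2.tensorLUnit D).inv_hom_id
      show (show Γ(X, U.1) from ε.hom.app U.1 ((M2.tensorMap s (𝟙 D)).app U.1 ((M2.tensorLUnit D).inv.app U.1 e'))) = _
      rw [hu, M2.tensorMap_tsec, show s.app U.1 (M1.one U.1) = MeroLib.sval L s U.1 from rfl, hsv, M2.tsec_smul_left]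
      exact Scheme.Modules.Hom.app_smul ε.hom a _
  haveI : Mono φ := by
    have hinj : ∀ (W : X.Opens) (z : Γ(D, W)), φ.app W z = 0 → z = 0 := by
      intro W z hz
      refine M1.section_ext z 0 fun y hy => ?_
      rw [map_zero]
      obtain ⟨U, e', a, hyU, he', ha, -, v, hv, hφ⟩ := hchart y
      obtain ⟨V, hV, hyV, hVle⟩ := exists_isAffineOpen_mem_and_subset (U := W ⊓ U.1) ⟨hy, hyU⟩
      haveI : Nonempty ↥U.1 := ⟨⟨y, hyU⟩⟩
      haveI : Nonempty ↥V := ⟨⟨y, hyV⟩⟩
      have hVW : V ≤ W := fun w hw => (hVle hw).1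
      have hVU : V ≤ U.1 := fun w hw => (hVle hw).2
      obtain ⟨r, hr⟩ := Amp.exists_coeff (Amp.isGenerator_res hVU he') (M2.res D hVW z)
      have h1 : (show Γ(X, V) from φ.app V (M2.res D hVW z)) = 0 := by
        refine (M1.map_app_eq φ hVW z).trans ?_
        rw [hz, map_zero]
      rw [← hr, show (show Γ(X, V) from φ.app V (r • M2.res D hVU e')) = r * (show Γ(X, V) from φ.app V (M2.res D hVU e'))
        from Scheme.Modules.Hom.app_smul φ r _] at h1
      have h2 : (show Γ(X, V) from φ.app V (M2.res D hVU e')) ≠ 0 := by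
        rw [show (show Γ(X, V) from φ.app V (M2.res D hVU e')) = (X.presheaf.map (homOfLE hVU).op).hom
          (show Γ(X, U.1) from φ.app U.1 e') from M1.map_app_eq φ hVU e', hφ]
        intro h
        have h3 := congrArg (X.presheaf.germ V y hyV) h
        rw [map_zero] at h3
        erw [TopCat.Presheaf.germ_res_apply] at h3
        have h4 := germ_injective_of_isIntegral X y hyU (h3.trans (map_zero _).symm)
        exact nonZeroDivisors.ne_zero ha (hv.mul_left_eq_zero.1 h4)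
      rw [← M1.germ_mres D hVW hyV z]
      haveI : IsDomain Γ(X, V) := @IsIntegral.component_integral X _ V ⟨⟨y, hyV⟩⟩
      rw [show M1.mres D hVW z = r • M2.res D hVU e' from hr.symm, (mul_eq_zero.1 h1).resolve_right h2, zero_smul, map_zero]
    refine ⟨fun {Z} f g h => Scheme.Modules.hom_ext _ _ fun W => ?_⟩
    ext z
    refine sub_eq_zero.1 (hinj W _ ?_)
    rw [map_sub, sub_eq_zero]
    exact congrArg (fun ψ => ψ.app W z) h
  obtain ⟨i⟩ := SecDiv.nonempty_iso_idealMod φ
  suffices h : SecDiv.ofMono φ = PicF2.zeroScheme L s from ⟨i ≪≫ eqToIso (congrArg _ h)⟩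
  refine EffCartier.eq_of_forall_exists fun x => ?_
  obtain ⟨U, e', a, hx, he', -, hI, v, hv, hφ⟩ := hchart x
  refine ⟨U, hx, ?_⟩
  rw [hI]
  ext b
  rw [Ideal.mem_span_singleton']
  constructor
  · rintro ⟨z, rfl⟩
    obtain ⟨r, rfl⟩ := Amp.exists_coeff he' z
    refine ⟨r * v, Eq.symm ((Scheme.Modules.Hom.app_smul φ r e').trans ?_)⟩
    show r * (show Γ(X, U.1) from φ.app U.1 e') = r * v * a
    rw [hφ]; ring
  · rintro ⟨r, rfl⟩
    refine ⟨(r * ↑hv.unit⁻¹) • e', (Scheme.Modules.Hom.app_smul φ _ e').trans ?_⟩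
    show r * ↑hv.unit⁻¹ * (show Γ(X, U.1) from φ.app U.1 e') = r * a
    rw [hφ, mul_comm a, ← mul_assoc, mul_assoc r, IsUnit.val_inv_mul, mul_one]

end Groth.Agent.IrrDiv13
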