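import Groth.Agent.Lib.SecDiv18.Factorial
import Groth.Agent.Lib.EffCartier.Basic
import Mathlib.RingTheory.UniqueFactorizationDomain.Kaplansky
import Mathlib.Topology.Sober
import Mathlib.AlgebraicGeometry.FunctionField

/-!
# An irreducible divisor on a locally factorial scheme is a multiple of a prime divisor
-/

set_option autoImplicit false
set_option linter.style.haveILetI false
set_option backward.isDefEq.respectTransparency false

universe u

open CategoryTheory AlgebraicGeometry TopologicalSpace Opposite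

namespace Groth.Agent.IrrDiv13

/-- A principal ideal with prime radical in a factorial domain is a prime power. -/
theorem exists_pow_of_radical {R : Type*} [CommRing R] [IsDomain R] [UniqueFactorizationMonoid R] {t : R}
    (ht : t ≠ 0) (hq : (Ideal.span {t}).radical.IsPrime) :
    ∃ (p : R) (m : ℕ), Prime p ∧ 0 < m ∧ (Ideal.span {t}).radical = Ideal.span {p} ∧
      Ideal.span {t} = Ideal.span {p} ^ m := by
  obtain ⟨p, hpq, hp⟩ := hq.exists_mem_prime_of_ne_bot fun h => ht (by
    rw [← Ideal.mem_bot, ← h]; exact Ideal.le_radical (Ideal.subset_span rfl))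
  obtain ⟨n, hn⟩ := Ideal.mem_radical_iff.1 hpq
  obtain ⟨m, -, hassoc⟩ := (dvd_prime_pow hp n).1 (Ideal.mem_span_singleton.1 hn)
  have hspan : Ideal.span {t} = Ideal.span {p} ^ m := by
    rw [Ideal.span_singleton_pow]; exact Ideal.span_singleton_eq_span_singleton.2 hassoc
  have hm : m ≠ 0 := by
    rintro rfl
    exact hq.ne_top (by rw [hspan, pow_zero, Ideal.one_eq_top, Ideal.radical_top])
  refine ⟨p, m, hp, Nat.pos_of_ne_zero hm, ?_, hspan⟩
  rw [hspan, Ideal.radical_pow _ hm]
  exact ((Ideal.span_singleton_prime hp.ne_zero).2 hp).radical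

variable {X : Scheme.{u}} (I : X.IdealSheafData)

/-- The stalk of an ideal sheaf, computed on an affine open. -/
noncomputable abbrev st (U : X.affineOpens) {x : X} (hx : x ∈ U.1) : Ideal (X.presheaf.stalk x) :=
  (I.ideal U).map (X.presheaf.germ U.1 x hx).hom

theorem st_mono {U V : X.affineOpens} (h : V ≤ U) {x : X} (hx : x ∈ V.1) : st I V hx = st I U (h hx) := by
  rw [st, st, ← I.map_ideal h, Ideal.map_map, ← CommRingCat.hom_comp]
  exact congrArg (fun φ : Γ(X, U.1) ⟶ X.presheaf.stalk x => (I.ideal U).map φ.hom) (X.presheaf.germ_res (homOfLE h) x hx)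

theorem st_eq {U V : X.affineOpens} {x : X} (hU : x ∈ U.1) (hV : x ∈ V.1) : st I U hU = st I V hV := by
  obtain ⟨W, hW, hxW, hWle⟩ := exists_isAffineOpen_mem_and_subset (U := U.1 ⊓ V.1) (x := x) ⟨hU, hV⟩
  rw [← st_mono I (U := U) (V := ⟨W, hW⟩) (fun z hz => (hWle hz).1) hxW, ← st_mono I (U := V) (V := ⟨W, hW⟩) (fun z hz => (hWle hz).2) hxW]

theorem st_specializes {U : X.affineOpens} {x y : X} (h : y ⤳ x) (hx : x ∈ U.1) :
    (st I U hx).map (X.presheaf.stalkSpecializes h).hom = st I U (h.mem_open U.1.isOpen hx) := by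
  rw [st, Ideal.map_map, ← CommRingCat.hom_comp, TopCat.Presheaf.germ_stalkSpecializes]

theorem st_eq_top {U : X.affineOpens} {x : X} (hx : x ∈ U.1) (h : x ∉ I.support) : st I U hx = ⊤ := by
  rw [Scheme.IdealSheafData.mem_support_iff_of_mem (U := U) hx, Scheme.mem_zeroLocus_iff] at h
  push Not at h
  obtain ⟨a, ha, hxa⟩ := h
  exact Ideal.eq_top_of_isUnit_mem _ (Ideal.mem_map_of_mem _ ha) ((X.mem_basicOpen a x hx).1 hxa)

/-- Ideal sheaves with the same stalks are equal. -/
theorem le_of_st {J : X.IdealSheafData}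
    (h : ∀ (U : X.affineOpens) (x : X) (hx : x ∈ U.1), st I U hx ≤ st J U hx) : I ≤ J := by
  intro U a ha
  let Q : Ideal Γ(X, U.1) := Submodule.comap (LinearMap.toSpanSingleton Γ(X, U.1) Γ(X, U.1) a) (J.ideal U)
  by_contra hne
  have hQ : Q ≠ ⊤ := fun htop => hne (by
    have h1 : (1 : Γ(X, U.1)) ∈ Q := htop ▸ trivial
    simpa [Q] using h1)
  obtain ⟨P, hP, hQP⟩ := Ideal.exists_le_maximal Q hQ
  haveI := hP.isPrime
  obtain ⟨z, hz, hzu⟩ := WA.exists_point U.2 P
  let := TopCat.Presheaf.algebra_section_stalk X.presheaf (⟨z, hz⟩ : U.1)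
  have := U.2.isLocalization_stalk ⟨z, hz⟩
  obtain ⟨t, ht, hta⟩ := (IsLocalization.algebraMap_mem_map_algebraMap_iff
    (U.2.primeIdealOf ⟨z, hz⟩).asIdeal.primeCompl (X.presheaf.stalk z) (J.ideal U) a).1
    (h U z hz (Ideal.mem_map_of_mem _ ha))
  exact (hzu t).1 ((M1.isUnit_germ_iff U.2 hz t).2 ht) (hQP (by simpa [Q] using hta))

theorem eq_of_st {J : X.IdealSheafData}
    (h : ∀ (U : X.affineOpens) (x : X) (hx : x ∈ U.1), st I U hx = st J U hx) : I = J :=
  le_antisymm (le_of_st I fun U x hx => (h U x hx).le) (le_of_st J fun U x hx => (h U x hx).ge)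

variable [IsIntegral X] [IsLocallyNoetherian X] (hufd : ∀ x : X, UniqueFactorizationMonoid (X.presheaf.stalk x))
  (hI : BlowUp.IsEffCartierIdeal I) (hirr : IsIrreducible (I.support : Set X))

include hufd hI hirr in
theorem exists_local {x : X} (hx : x ∈ I.support) :
    ∃ (U : X.affineOpens) (hxU : x ∈ U.1) (p : X.presheaf.stalk x) (m : ℕ),
      Prime p ∧ 0 < m ∧ st I.radical U hxU = Ideal.span {p} ∧ st I U hxU = Ideal.span {p} ^ m := by
  obtain ⟨U, hxU, -, f, hf⟩ := EffCartier.exists_isEqn hI (W := ⊤) (Set.mem_univ x)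
  haveI : Nonempty ↥U.1 := ⟨⟨x, hxU⟩⟩
  let := TopCat.Presheaf.algebra_section_stalk X.presheaf (⟨x, hxU⟩ : U.1)
  have := U.2.isLocalization_stalk ⟨x, hxU⟩
  haveI := hufd x
  have ht : X.presheaf.germ U.1 x hxU f ≠ 0 := fun h => nonZeroDivisors.ne_zero hf.mem
    (germ_injective_of_isIntegral X x hxU (h.trans (map_zero _).symm))
  have hst : st I U hxU = Ideal.span {X.presheaf.germ U.1 x hxU f} := by
    rw [st, hf.ideal_eq, Ideal.map_span, Set.image_singleton]
  -- the radical is prime on the chart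
  have hpre : PrimeSpectrum.zeroLocus (I.ideal U : Set Γ(X, U.1)) = U.2.fromSpec ⁻¹' (I.support : Set X) := by
    apply U.2.fromSpec.isOpenEmbedding.injective.image_injective
    rw [Set.image_preimage_eq_inter_range, IsAffineOpen.range_fromSpec, IsAffineOpen.fromSpec_image_zeroLocus,
      Scheme.IdealSheafData.coe_support_inter]
  have hP : (I.ideal U).radical.IsPrime := by
    refine (PrimeSpectrum.isIrreducible_zeroLocus_iff _).1 ?_
    rw [hpre]
    exact hirr.preimage U.2.fromSpec.isOpenEmbedding ⟨x, hx, by rw [IsAffineOpen.range_fromSpec]; exact hxU⟩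
  have hle : (I.ideal U).radical ≤ (U.2.primeIdealOf ⟨x, hxU⟩).asIdeal := by
    refine (U.2.primeIdealOf ⟨x, hxU⟩).isPrime.radical_le_iff.2 fun a ha => ?_
    by_contra hna
    rw [Scheme.IdealSheafData.mem_support_iff_of_mem (U := U) hxU, Scheme.mem_zeroLocus_iff] at hx
    exact hx a ha ((X.mem_basicOpen a x hxU).2 ((M1.isUnit_germ_iff U.2 hxU a).2 hna))
  have hq : (Ideal.span {X.presheaf.germ U.1 x hxU f}).radical.IsPrime := by
    have h := IsLocalization.isPrime_of_isPrime_disjoint (U.2.primeIdealOf ⟨x, hxU⟩).asIdeal.primeCompl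
      (X.presheaf.stalk x) _ hP (Set.disjoint_left.2 fun a ha ha' => ha (hle ha'))
    rw [IsLocalization.map_radical (U.2.primeIdealOf ⟨x, hxU⟩).asIdeal.primeCompl] at h
    rw [← hst]
    exact h
  obtain ⟨p, m, hp, hm, hrad, hpow⟩ := exists_pow_of_radical ht hq
  refine ⟨U, hxU, p, m, hp, hm, ?_, hst.trans hpow⟩
  rw [← hrad, ← hst]
  exact IsLocalization.map_radical (U.2.primeIdealOf ⟨x, hxU⟩).asIdeal.primeCompl (X.presheaf.stalk x) (I.ideal U)

include hufd hI hirr in
/-- An effective Cartier divisor with irreducible support on a locally factorial scheme is a power of its radical. -/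
theorem exists_eq_pow : BlowUp.IsEffCartierIdeal I.radical ∧ ∃ m : ℕ, 0 < m ∧ I = I.radical ^ m := by
  have hloc := fun {x : X} (hx : x ∈ I.support) => exists_local I hufd hI hirr hx
  let ξ := hirr.genericPoint
  have hgen : IsGenericPoint ξ (I.support : Set X) := by
    simpa [I.support.isClosed.closure_eq] using hirr.isGenericPoint_genericPoint_closure
  obtain ⟨U₀, hξ₀, p₀, m, hp₀, hm, hr₀, hs₀⟩ := hloc (x := ξ) hgen.mem
  refine ⟨fun x => ?_, m, hm, eq_of_st I fun U x hxU => ?_⟩
  · obtain ⟨U, hU, hxU, -⟩ := exists_isAffineOpen_mem_and_subset (U := (⊤ : X.Opens)) (x := x) trivial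
    by_cases hx : x ∈ I.support
    · obtain ⟨V, hxV, p, n, hp, -, hr, -⟩ := hloc hx
      exact SecDiv.exists_eqn_of_stalk I.radical V hxV p (mem_nonZeroDivisors_of_ne_zero hp.ne_zero) hr
    · exact SecDiv.exists_eqn_of_stalk I.radical ⟨U, hU⟩ hxU 1 (one_mem _) (by
        rw [Ideal.span_singleton_one]
        exact st_eq_top I.radical (U := ⟨U, hU⟩) hxU hx)
  · have hpow : st (I.radical ^ m) U hxU = st I.radical U hxU ^ m := by
      rw [st, st, Scheme.IdealSheafData.ideal_pow, Pi.pow_apply, Ideal.map_pow]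
    rw [hpow]
    by_cases hx : x ∈ I.support
    swap
    · rw [st_eq_top I hxU hx, st_eq_top I.radical hxU hx, Ideal.top_pow]
    obtain ⟨V, hxV, p, n, hp, hn, hr, hs⟩ := hloc hx
    rw [st_eq I hxU hxV, st_eq I.radical hxU hxV, hr, hs]
    suffices n = m by rw [this]
    have hsp : ξ ⤳ x := hgen.specializes hx
    have h1 : st I.radical V (hsp.mem_open V.1.isOpen hxV) = Ideal.span {X.presheaf.stalkSpecializes hsp p} := by
      rw [← st_specializes I.radical hsp hxV, hr, Ideal.map_span, Set.image_singleton]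
    have h2 : st I V (hsp.mem_open V.1.isOpen hxV) = Ideal.span {X.presheaf.stalkSpecializes hsp p} ^ n := by
      rw [← st_specializes I hsp hxV, hs, Ideal.map_pow, Ideal.map_span, Set.image_singleton]
    rw [st_eq I.radical _ hξ₀, hr₀] at h1
    rw [st_eq I _ hξ₀, hs₀, ← h1, Ideal.span_singleton_pow, Ideal.span_singleton_pow,
      Ideal.span_singleton_eq_span_singleton] at h2
    exact le_antisymm ((pow_dvd_pow_iff hp₀.ne_zero hp₀.not_isUnit).1 h2.symm.dvd)
      ((pow_dvd_pow_iff hp₀.ne_zero hp₀.not_isUnit).1 h2.dvd)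

end Groth.Agent.IrrDiv13
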